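import Cfsg.Agent.H625.RB.Fix11
import Cfsg.Agent.H700.F43.MdlI

/-!
# `F₄(3)` (S2464): `|FixX g| ≤ 3¹²` for `ff g ≠ 1` (helper625; box T5)
-/

set_option autoImplicit false

namespace Cfsg.Agent.H625.RB

open Cfsg.Agent.H700.F43 Cfsg.Agent.H323.Pw

/-- **Box T5** -/
theorem fix12 (g : ↥PP) (hg : ff g ≠ 1) : Nat.card (FixX ff.ker zP g) ≤ 3 ^ 12 := by
  obtain ⟨X, -, hX⟩ := kp_act g
  have h1 := fix_PP dat hX
  have h2 := fin11 hg hX
  refine h1.trans ?_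
  calc 3 * 3 ^ Module.finrank F3 (LinearMap.ker (X - 1)) ≤ 3 * 3 ^ 11 :=
        Nat.mul_le_mul_left _ (Nat.pow_le_pow_right (by norm_num) h2)
    _ = 3 ^ 12 := by norm_num

end Cfsg.Agent.H625.RB
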