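import Cfsg.Agent.H750.F43.UTwo
import Cfsg.Agent.H267.Pw.SpGen

/-!
# Fixed points of an element `≠ 1` of `Sp₆(3)` on `V₁₄` (S2464, F₄(3), box T5; helper625)

* `fin11` : `dim ker (X - 1) ≤ 11` for `Rel A X`, `A ≠ 1`.
-/

set_option autoImplicit false

namespace Cfsg.Agent.H625.RB

open Cfsg Matrix Module
open Cfsg.Agent.H700.F43 Cfsg.Agent.H750.F43
open Cfsg.Agent.ClassicalGeometry.SympBasic

theorem rel_pow {A : Sp} {X : V14 →ₗ[F3] V14} (h : Rel A X) (n : ℕ) : Rel (A ^ n) (X ^ n) := by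
  induction n with
  | zero => rw [pow_zero, pow_zero]; exact Rel.one
  | succ n ih => rw [pow_succ, pow_succ]; exact ih.mul h

theorem ker_le_pow (X : V14 →ₗ[F3] V14) (n : ℕ) : LinearMap.ker (X - 1) ≤ LinearMap.ker (X ^ n - 1) := by
  intro φ hφ
  rw [LinearMap.mem_ker, LinearMap.sub_apply, sub_eq_zero] at hφ ⊢
  have h1 : X φ = φ := hφ
  induction n with
  | zero => rw [pow_zero]
  | succ n ih =>
    rw [pow_succ]
    change (X ^ n) (X φ) = _
    rw [h1, ih]

theorem fin_le_pow (X : V14 →ₗ[F3] V14) (n : ℕ) :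
    finrank F3 (LinearMap.ker (X - 1)) ≤ finrank F3 (LinearMap.ker (X ^ n - 1)) :=
  Submodule.finrank_mono (ker_le_pow X n)

/-- a vector which is not an eigenvector -/
theorem exists_vec {A : Sp} (h1 : A ≠ 1) (h2 : A ≠ ng) : ∃ v : V6, A.1 *ᵥ v ≠ v ∧ A.1 *ᵥ v ≠ -v := by
  have hng : ∀ x : V6, ng.1 *ᵥ x = -x := fun x => by
    show (-1 : Matrix (Fin 3 ⊕ Fin 3) (Fin 3 ⊕ Fin 3) F3) *ᵥ x = -x
    rw [Matrix.neg_mulVec, Matrix.one_mulVec]
  have hz : ∀ x : V6, x = -x → x = 0 := fun x hx => by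
    funext i
    have h3 := congrFun hx i
    have h4 : ∀ t : F3, t = -t → t = 0 := by decide
    exact h4 _ h3
  obtain ⟨a, ha⟩ : ∃ a : V6, A.1 *ᵥ a ≠ a := by
    by_contra hno
    push Not at hno
    exact h1 (ext_mv fun v => by rw [hno v, one_mv])
  obtain ⟨b, hb⟩ : ∃ b : V6, A.1 *ᵥ b ≠ -b := by
    by_contra hno
    push Not at hno
    exact h2 (ext_mv fun v => by rw [hno v, hng])
  by_cases ha' : A.1 *ᵥ a = -a
  · by_cases hb' : A.1 *ᵥ b = b
    · refine ⟨a + b, ?_, ?_⟩
      · rw [Matrix.mulVec_add, ha', hb']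
        intro h
        have h3 : a = -a := by
          have h4 := add_right_cancel h
          exact h4.symm
        have h4 := hz a h3
        rw [h4] at ha
        exact ha (Matrix.mulVec_zero _)
      · rw [Matrix.mulVec_add, ha', hb', neg_add]
        intro h
        have h3 : b = -b := add_left_cancel h
        have h4 := hz b h3
        rw [h4] at hb
        exact hb (by rw [Matrix.mulVec_zero, neg_zero])
    · exact ⟨b, hb', hb⟩
  · exact ⟨a, ha, ha'⟩

/-- the commutator with a transvection -/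
theorem comm_mv (A : Sp) (v x : V6) :
    (A * transv v 1 * A⁻¹ * (transv v 1)⁻¹).1 *ᵥ ((transv v 1).1 *ᵥ x) =
      x + sympForm 3 F3 x (A.1 *ᵥ v) • (A.1 *ᵥ v) := by
  have h1 : A * transv v 1 * A⁻¹ * (transv v 1)⁻¹ = transv (A.1 *ᵥ v) 1 * (transv v 1)⁻¹ := by rw [conj_transv]
  rw [h1, mul_mv, inv_mv, coe_transv, sympTransvection_mulVec, one_mul]

/-- an involution `≠ 1, -1` -/
theorem inv_case {A : Sp} (h1 : A ≠ 1) (h2 : A ≠ ng) (h3 : A * A = 1) :
    ∃ (T w : Sp), w = A * T * A⁻¹ * T⁻¹ ∧ w ≠ 1 ∧ Odd (orderOf w) := by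
  obtain ⟨v, hv1, hv2⟩ := exists_vec h1 h2
  set u : V6 := A.1 *ᵥ v with hu
  have hAu : A.1 *ᵥ u = v := by rw [hu, ← mul_mv, h3, one_mv]
  have hfz : sympForm 3 F3 u v = 0 := by
    have h4 := fm A u v
    rw [hAu, ← hu] at h4
    rw [sympForm_swap] at h4
    have h5 : ∀ t : F3, -t = t → t = 0 := by decide
    exact h5 _ h4
  have hfz' : sympForm 3 F3 v u = 0 := by rw [sympForm_swap, hfz, neg_zero]
  have hv0 : v ≠ 0 := by
    intro h
    apply hv1
    rw [hu, h, Matrix.mulVec_zero]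
  refine ⟨transv v 1, A * transv v 1 * A⁻¹ * (transv v 1)⁻¹, rfl, ?_, ?_⟩
  · intro h4
    -- `x + f(x,u) u = x + f(x,v) v`
    have h5 : ∀ x : V6, sympForm 3 F3 x u • u = sympForm 3 F3 x v • v := by
      intro x
      have h6 := comm_mv A v x
      rw [h4, one_mv, coe_transv, sympTransvection_mulVec, one_mul, ← hu] at h6
      exact (add_left_cancel h6).symm
    obtain ⟨x, hx⟩ : ∃ x, sympForm 3 F3 x v ≠ 0 := by
      by_contra hno
      push Not at hno
      exact hv0 (eq_zero_of_forall_sympForm_left hno)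
    have h6 := h5 x
    have h7 : sympForm 3 F3 x v = 1 ∨ sympForm 3 F3 x v = -1 := by
      generalize sympForm 3 F3 x v = t at hx
      revert t
      decide
    have h8 : sympForm 3 F3 x u = 0 ∨ sympForm 3 F3 x u = 1 ∨ sympForm 3 F3 x u = -1 := by
      generalize sympForm 3 F3 x u = t
      revert t
      decide
    rcases h7 with h7 | h7 <;> rcases h8 with h8 | h8 | h8 <;> rw [h7, h8] at h6
    · rw [zero_smul, one_smul] at h6
      exact hv0 h6.symm
    · rw [one_smul, one_smul] at h6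
      exact hv1 h6
    · rw [neg_smul, one_smul, one_smul] at h6
      exact hv2 (by rw [← h6, neg_neg])
    · rw [zero_smul, neg_smul, one_smul, zero_eq_neg] at h6
      exact hv0 h6
    · rw [neg_smul, one_smul, one_smul] at h6
      exact hv2 h6
    · rw [neg_smul, one_smul, neg_smul, one_smul, neg_inj] at h6
      exact hv1 h6
  · -- `w³ = 1`
    have h4 : A * transv v 1 * A⁻¹ * (transv v 1)⁻¹ = transv u 1 * (transv v 1)⁻¹ := by rw [conj_transv]
    have hcube : ∀ z : V6, transv z 1 ^ 3 = (1 : Sp) := by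
      intro z
      apply ext_mv
      intro x
      rw [pow_succ, pow_two, mul_mv, mul_mv, one_mv, coe_transv, sympTransvection_mulVec, sympTransvection_mulVec,
        sympTransvection_mulVec, sympForm_add_left, sympForm_add_left, sympForm_add_left, sympForm_smul_left,
        sympForm_smul_left, sympForm_self]
      simp only [one_mul, mul_zero, add_zero]
      have h5 : ∀ t : F3, t + t + t = 0 := by decide
      rw [add_assoc, add_assoc, ← add_assoc (_ • z), ← add_smul, ← add_smul, h5, zero_smul, add_zero]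
    have hcomm : Commute (transv u 1 : Sp) (transv v 1) := by
      apply ext_mv
      intro x
      rw [mul_mv, mul_mv, coe_transv, coe_transv, sympTransvection_mulVec, sympTransvection_mulVec,
        sympTransvection_mulVec, sympTransvection_mulVec, sympForm_add_left, sympForm_add_left, sympForm_smul_left,
        sympForm_smul_left, hfz, hfz']
      simp only [one_mul, mul_zero, add_zero]
      abel
    have h5 : (A * transv v 1 * A⁻¹ * (transv v 1)⁻¹) ^ 3 = 1 := by
      rw [h4, (hcomm.inv_right).mul_pow, hcube, inv_pow, hcube, inv_one, one_mul]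
    have h6 : orderOf (A * transv v 1 * A⁻¹ * (transv v 1)⁻¹) ∣ 3 := orderOf_dvd_of_pow_eq_one h5
    exact Odd.of_dvd_nat (by decide) h6

/-- **Fixed points of an element `≠ 1`.** -/
theorem fin11_inv {A : Sp} (h1 : A ≠ 1) (h3 : A * A = 1) {X : V14 →ₗ[F3] V14} (hX : Rel A X) :
    finrank F3 (LinearMap.ker (X - 1)) ≤ 11 := by
  by_cases h2 : A = ng
  · have h4 : X = -1 := by
      rw [h2] at hX
      exact rel_unique hX H267.SpFx.rel_ng
    have h5 : LinearMap.ker (X - 1) = ⊥ := by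
      rw [LinearMap.ker_eq_bot']
      intro φ hφ
      rw [h4, LinearMap.sub_apply, sub_eq_zero] at hφ
      funext i
      have h6 := congrFun hφ i
      have h7 : ∀ t : F3, -t = t → t = 0 := by decide
      exact h7 _ h6
    rw [h5, finrank_bot]
    omega
  · obtain ⟨T, w, hw, hw1, hwo⟩ := inv_case h1 h2 h3
    obtain ⟨Y, hY⟩ := H267.SpFx.exists_rel T
    obtain ⟨Y', hY'⟩ := H267.SpFx.exists_rel T⁻¹
    obtain ⟨X', hX'⟩ := H267.SpFx.exists_rel A⁻¹
    have e1 : Y * Y' = 1 := rel_unique (mul_inv_cancel T ▸ hY.mul hY') Rel.one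
    have e2 : Y' * Y = 1 := rel_unique (inv_mul_cancel T ▸ hY'.mul hY) Rel.one
    have e3 : X' * X = 1 := rel_unique (inv_mul_cancel A ▸ hX'.mul hX) Rel.one
    have hW : Rel w (X * Y * X' * Y') := by
      rw [hw]
      exact ((hX.mul hY).mul hX').mul hY'
    have h9 := (fix_le H267.SpFx.exists_rel hw1 hwo hW).1
    let e : V14 ≃ₗ[F3] V14 := LinearEquiv.ofLinearMap Y Y' e1 e2
    let F := LinearMap.ker (X - 1)
    have hF : ∀ φ, φ ∈ F ↔ X φ = φ := fun φ => by
      rw [LinearMap.mem_ker, LinearMap.sub_apply, sub_eq_zero]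
      rfl
    have hle : F ⊓ F.map (e : V14 →ₗ[F3] V14) ≤ LinearMap.ker (X * Y * X' * Y' - 1) := by
      rintro φ ⟨h4, h5⟩
      obtain ⟨ψ, h6, rfl⟩ := h5
      have h7 : X ψ = ψ := (hF ψ).1 h6
      have h8 : X' ψ = ψ := by
        have h10 : X' (X ψ) = ψ := LinearMap.congr_fun e3 ψ
        rwa [h7] at h10
      have h10 : X (Y ψ) = Y ψ := (hF _).1 h4
      have h11 : Y' (Y ψ) = ψ := LinearMap.congr_fun e2 ψ
      rw [LinearMap.mem_ker, LinearMap.sub_apply, sub_eq_zero]
      change X (Y (X' (Y' (Y ψ)))) = Y ψ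
      rw [h11, h8, h10]
    have h4 : finrank F3 (F.map (e : V14 →ₗ[F3] V14)) = finrank F3 F := LinearEquiv.finrank_map_eq e _
    have h5 := Submodule.finrank_sup_add_finrank_inf_eq F (F.map (e : V14 →ₗ[F3] V14))
    have h6 : finrank F3 ↥(F ⊔ F.map (e : V14 →ₗ[F3] V14)) ≤ 14 := by
      refine (Submodule.finrank_le _).trans ?_
      rw [finrank_fintype_fun_eq_card, Fintype.card_fin]
    have h7 := Submodule.finrank_mono hle
    rw [h4] at h5
    have h8 : finrank F3 F ≤ 11 := by omega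
    exact h8

/-- **Fixed points of an element `≠ 1` of `Sp₆(3)` on `V₁₄`.** -/
theorem fin11 {A : Sp} (h1 : A ≠ 1) {X : V14 →ₗ[F3] V14} (hX : Rel A X) :
    finrank F3 (LinearMap.ker (X - 1)) ≤ 11 := by
  have hn : orderOf A ≠ 0 := (orderOf_pos A).ne'
  obtain ⟨a, m, hm, hnm⟩ := Nat.exists_eq_two_pow_mul_odd hn
  by_cases hm1 : m = 1
  · rw [hm1, mul_one] at hnm
    have ha : a ≠ 0 := by
      rintro rfl
      rw [pow_zero] at hnm
      exact h1 (orderOf_eq_one_iff.1 hnm)
    obtain ⟨b, rfl⟩ := Nat.exists_eq_succ_of_ne_zero ha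
    refine (fin_le_pow X (2 ^ b)).trans (fin11_inv (A := A ^ 2 ^ b) ?_ ?_ (rel_pow hX _))
    · intro h
      have h4 := orderOf_dvd_of_pow_eq_one h
      rw [hnm] at h4
      have h5 := Nat.le_of_dvd (by positivity) h4
      rw [pow_succ] at h5
      have h6 : 0 < 2 ^ b := by positivity
      omega
    · rw [← pow_add, ← mul_two, ← pow_succ]
      have h4 := pow_orderOf_eq_one A
      rwa [hnm] at h4
  · have h4 : A ^ 2 ^ a ≠ 1 := by
      intro h
      have h5 := orderOf_dvd_of_pow_eq_one h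
      rw [hnm] at h5
      have h6 : m ∣ 1 := by
        have h7 : 0 < 2 ^ a := by positivity
        have h8 : 2 ^ a * m ∣ 2 ^ a * 1 := by rwa [mul_one]
        exact Nat.dvd_of_mul_dvd_mul_left h7 h8
      exact hm1 (Nat.dvd_one.1 h6)
    have h5 : Odd (orderOf (A ^ 2 ^ a)) := by
      rw [orderOf_pow, hnm, Nat.gcd_eq_right (Dvd.intro _ rfl), Nat.mul_div_cancel_left _ (by positivity)]
      exact hm
    have h6 := (fix_le H267.SpFx.exists_rel h4 h5 (rel_pow hX (2 ^ a))).1
    exact (fin_le_pow X (2 ^ a)).trans (by omega)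

end Cfsg.Agent.H625.RB
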